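import Groth.Agent.DimOneDvr.Complete
import Groth.Agent.S0505
import Mathlib

/-! Finite extensions of complete discrete valuation rings. -/

set_option autoImplicit false
open IsLocalRing
attribute [local instance] FractionRing.liftAlgebra
universe u

namespace Groth.Agent.CplDvrExtLib

variable (A B : Type u) [CommRing A] [IsDomain A] [IsDiscreteValuationRing A]
    [IsAdicComplete (IsLocalRing.maximalIdeal A) A]
    [CommRing B] [IsDedekindDomain B] [Algebra A B] [Module.Finite A B] [Module.IsTorsionFree A B]

theorem injective : Function.Injective (algebraMap A B) := by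
  rw [injective_iff_map_eq_zero]
  intro a ha
  by_contra h0
  refine one_ne_zero ((Module.IsTorsionFree.isSMulRegular (M := B) (IsRegular.of_ne_zero h0))
    (show a • (1 : B) = a • (0 : B) by rw [Algebra.smul_def, Algebra.smul_def, ha, zero_mul, zero_mul]))

include A in
theorem isLocalRing : IsLocalRing B := DimOneDvr.isLocalRing_of_finite_domain (A := A)

include A in
theorem henselian : HenselianLocalRing B :=
  haveI := isLocalRing A B
  haveI : HenselianLocalRing A :=
    HenselLib.henselianLocalRing_of_henselianRing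
  Groth.Agent.S0505.result A B

theorem liesOver (M : Ideal B) [M.IsMaximal] : M.comap (algebraMap A B) = maximalIdeal A :=
  haveI : Algebra.IsIntegral A B := Algebra.IsIntegral.of_finite A B
  eq_maximalIdeal (Ideal.isMaximal_comap_of_isIntegral_of_isMaximal (R := A) M)

theorem eq_max [IsLocalRing B] (M : Ideal B) [M.IsMaximal] : M = maximalIdeal B := eq_maximalIdeal ‹_›

include A in
theorem ne_bot (M : Ideal B) [M.IsMaximal] : M ≠ ⊥ := by
  intro h
  have := liesOver A B M
  rw [h] at this
  obtain ⟨ϖ, hϖ⟩ := IsDiscreteValuationRing.exists_irreducible A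
  have hm : ϖ ∈ maximalIdeal A := hϖ.not_isUnit
  rw [← this, Ideal.mem_comap, Ideal.mem_bot] at hm
  exact hϖ.ne_zero (injective A B (hm.trans (map_zero _).symm))

include A in
theorem isDiscreteValuationRing [IsLocalRing B] : IsDiscreteValuationRing B := by
  haveI : IsPrincipalIdealRing B := IsPrincipalIdealRing.of_finite_maximals (by
    refine Set.Finite.subset (Set.finite_singleton (maximalIdeal B)) fun I hI => ?_
    exact Set.mem_singleton_iff.2 (eq_maximalIdeal hI))
  exact { not_a_field' := ne_bot A B (maximalIdeal B) }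

theorem emultiplicity_intNorm [Algebra.IsSeparable (FractionRing A) (FractionRing B)]
    (M : Ideal B) [M.IsMaximal] (x : B) (hx : x ≠ 0) :
    emultiplicity (maximalIdeal A) (Ideal.span {Algebra.intNorm A B x}) =
      (M.inertiaDeg A : ℕ∞) * emultiplicity M (Ideal.span {x}) := by
  haveI := isLocalRing A B
  haveI := isDiscreteValuationRing A B
  haveI : Module.Free A B := Module.free_of_finite_type_torsion_free'
  haveI : M.LiesOver (maximalIdeal A) := ⟨(liesOver A B M).symm⟩
  have hM : M = maximalIdeal B := eq_max B M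
  obtain ⟨π, hπ⟩ := IsDiscreteValuationRing.exists_irreducible A
  obtain ⟨ϖ, hϖ⟩ := IsDiscreteValuationRing.exists_irreducible B
  haveI : Fintype ((maximalIdeal A).primesOver B) :=
    Fintype.ofFinite _
  have hprimes : ∀ q : (maximalIdeal A).primesOver B, q.1 = M := fun q => by
    have hmax : q.1.IsMaximal := by
      haveI := q.2.1
      haveI := q.2.2
      exact Ideal.IsMaximal.of_liesOver_isMaximal q.1 (maximalIdeal A)
    rw [hM]; exact eq_maximalIdeal hmax
  have hef : M.ramificationIdx A * M.inertiaDeg A = Module.finrank A B := by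
    rw [← Ideal.sum_ramification_inertia_eq_finrank (p := maximalIdeal A)]
    rw [Fintype.sum_eq_single (⟨M, inferInstance, inferInstance⟩ : (maximalIdeal A).primesOver B)
      (fun q hq => absurd (Subtype.ext (hprimes q)) hq)]
  have hspan : M = Ideal.span {ϖ} := hM.trans hϖ.maximalIdeal_eq
  have hπB : algebraMap A B π ≠ 0 := fun h => hπ.ne_zero (injective A B (h.trans (map_zero _).symm))
  obtain ⟨e, u, hu⟩ := IsDiscreteValuationRing.eq_unit_mul_pow_irreducible hπB hϖ
  have hpM : Prime M := Ideal.prime_of_isPrime (ne_bot A B M) inferInstance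
  have hpA : Prime (maximalIdeal A) :=
    Ideal.prime_of_isPrime (IsDiscreteValuationRing.not_a_field A) inferInstance
  have hspow : ∀ (w : ℕ) (v : Bˣ), Ideal.span {(v : B) * ϖ ^ w} = M ^ w := fun w v => by
    rw [hspan, Ideal.span_singleton_pow, Ideal.span_singleton_mul_left_unit v.isUnit]
  have hspowA : ∀ (w : ℕ) (v : Aˣ), Ideal.span {(v : A) * π ^ w} = maximalIdeal A ^ w := fun w v => by
    rw [hπ.maximalIdeal_eq, Ideal.span_singleton_pow, Ideal.span_singleton_mul_left_unit v.isUnit]
  have he : M.ramificationIdx A = e := by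
    have hmap : (maximalIdeal A).map (algebraMap A B) = M ^ e := by
      rw [hπ.maximalIdeal_eq, Ideal.map_span, Set.image_singleton, hu, hspow]
    rw [Ideal.IsDedekindDomain.ramificationIdx_eq_multiplicity (maximalIdeal A) M (by
      rw [hmap]; exact pow_ne_zero _ (ne_bot A B M)), hmap]
    exact multiplicity_pow_self_of_prime hpM e
  have hnorm : Algebra.intNorm A B (algebraMap A B π) = π ^ Module.finrank A B := by
    rw [Algebra.intNorm_eq_norm, Algebra.norm_algebraMap_of_basis (Module.Free.chooseBasis A B),
      Module.finrank_eq_card_chooseBasisIndex]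
  have hN0 : Algebra.intNorm A B ϖ ≠ 0 := fun h => hϖ.ne_zero (Algebra.intNorm_eq_zero.1 h)
  obtain ⟨g, v, hg⟩ := IsDiscreteValuationRing.eq_unit_mul_pow_irreducible hN0 hπ
  have huN : IsUnit (Algebra.intNorm A B (u : B)) := u.isUnit.map _
  rw [hu, map_mul, map_pow, hg] at hnorm
  have hge : g * e = Module.finrank A B := by
    have hdv := congrArg (fun a => Ideal.span {a}) hnorm
    rw [mul_pow, ← pow_mul, ← mul_assoc, show (π : A) ^ Module.finrank A B = ((1 : Aˣ) : A) * π ^ Module.finrank A B by simp,
      show Algebra.intNorm A B (u : B) * (v : A) ^ e = ((huN.unit * v ^ e : Aˣ) : A) by simp, hspowA, hspowA] at hdv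
    have := congrArg (emultiplicity (maximalIdeal A)) hdv
    rwa [emultiplicity_pow_self_of_prime hpA, emultiplicity_pow_self_of_prime hpA, Nat.cast_inj] at this
  obtain ⟨w, z, hz⟩ := IsDiscreteValuationRing.eq_unit_mul_pow_irreducible hx hϖ
  have hzN : IsUnit (Algebra.intNorm A B (z : B)) := z.isUnit.map _
  rw [hz, map_mul, map_pow, hg, hspow, emultiplicity_pow_self_of_prime hpM, mul_pow, ← pow_mul, ← mul_assoc,
    show Algebra.intNorm A B (z : B) * (v : A) ^ w = ((hzN.unit * v ^ w : Aˣ) : A) by simp, hspowA,
    emultiplicity_pow_self_of_prime hpA, ← Nat.cast_mul, Nat.cast_inj]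
  have hf : g = M.inertiaDeg A := by
    have hpos : 0 < e := he ▸ Ideal.ramificationIdx_pos (q := M) (R := A)
    rw [← hef, he, mul_comm e] at hge
    exact Nat.eq_of_mul_eq_mul_right hpos hge
  rw [hf]

theorem existsUnique_algebraic_lift (K : Type u) [Field K] [PerfectField K] [Algebra K A]
    (hK : Function.Bijective ((IsLocalRing.residue A).comp (algebraMap K A)))
    [Algebra K B] [IsScalarTower K A B] (M : Ideal B) [M.IsMaximal] (b : B) :
    ∃! c : B, IsAlgebraic K c ∧ b - c ∈ M := by
  haveI := isLocalRing A B
  haveI := henselian A B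
  have hM : M = maximalIdeal B := eq_max B M
  subst hM
  haveI hloc : IsLocalHom (algebraMap A B) := ⟨fun a ha => by
    by_contra h
    have : a ∈ (maximalIdeal B).comap (algebraMap A B) := (liesOver A B (maximalIdeal B)).ge h
    exact this ha⟩
  haveI : IsScalarTower K (ResidueField A) (ResidueField B) := IsScalarTower.of_algebraMap_eq fun k => by
    change residue B (algebraMap K B k) = algebraMap (ResidueField A) (ResidueField B) (residue A (algebraMap K A k))
    rw [IsScalarTower.algebraMap_apply K A B]
    rfl
  haveI : Module.Finite K (ResidueField A) := RingHom.finite_algebraMap.1 (RingHom.Finite.of_surjective _ hK.2)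
  haveI : Module.Finite (ResidueField A) (ResidueField B) := Module.Finite.of_restrictScalars_finite A _ _
  haveI : Module.Finite K (ResidueField B) := Module.Finite.trans (ResidueField A) _
  have hint : IsIntegral K (residue B b) := IsIntegral.of_finite K _
  let g := minpoly K (residue B b)
  have hroot : (g.map (algebraMap K B)).eval b ∈ maximalIdeal B := by
    rw [← residue_eq_zero_iff, ← Polynomial.eval_map_apply, Polynomial.map_map,
      show (residue B).comp (algebraMap K B) = algebraMap K (ResidueField B) from rfl, Polynomial.eval_map_algebraMap]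
    exact minpoly.aeval _ _
  have hder : IsUnit ((g.map (algebraMap K B)).derivative.eval b) := by
    rw [← residue_ne_zero_iff_isUnit, Polynomial.derivative_map, ← Polynomial.eval_map_apply,
      Polynomial.map_map, show (residue B).comp (algebraMap K B) = algebraMap K (ResidueField B) from rfl, Polynomial.eval_map_algebraMap]
    exact (PerfectField.separable_of_irreducible (minpoly.irreducible hint)).aeval_derivative_ne_zero
      (minpoly.aeval _ _)
  obtain ⟨c, hc, hcb⟩ := HenselianLocalRing.is_henselian (g.map (algebraMap K B)) ((minpoly.monic hint).map _) b hroot hder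
  have hcalg : IsAlgebraic K c := ⟨g, minpoly.ne_zero hint, by
    rw [← Polynomial.eval_map_algebraMap]; exact hc⟩
  refine ⟨c, ⟨hcalg, by rw [← neg_sub]; exact neg_mem hcb⟩, ?_⟩
  rintro c' ⟨hc', hc'b⟩
  by_contra hne
  have hmem : c' - c ∈ maximalIdeal B := by
    have := add_mem (neg_mem hc'b) (neg_mem hcb)
    have h2 : c' - c = -(b - c') + -(c - b) := by ring
    rwa [h2]
  obtain ⟨d, hd0, hd⟩ := (hc'.sub hcalg).exists_nonzero_dvd (mem_nonZeroDivisors_of_ne_zero (sub_ne_zero.2 hne))
  exact hmem (isUnit_of_dvd_unit hd (hd0.isUnit.map (algebraMap K B)))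

theorem exists_kummer (K : Type u) [Field K] [Algebra K A]
    (hK : Function.Bijective ((IsLocalRing.residue A).comp (algebraMap K A)))
    (M : Ideal B) [M.IsMaximal] (hram : M.ramificationIdx A = Module.finrank A B)
    (hm : IsUnit ((Module.finrank A B : ℕ) : A)) :
    ∃ u : B, u ∈ M ∧ u ∉ M ^ 2 ∧ u ^ Module.finrank A B ∈ (algebraMap A B).range ∧
      (minpoly A u).natDegree = Module.finrank A B := by
  haveI := isLocalRing A B
  haveI := henselian A B
  haveI := isDiscreteValuationRing A B
  haveI : Module.Free A B := Module.free_of_finite_type_torsion_free'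
  haveI : M.LiesOver (maximalIdeal A) := ⟨(liesOver A B M).symm⟩
  have hM : M = maximalIdeal B := eq_max B M
  subst hM
  obtain ⟨π, hπ⟩ := IsDiscreteValuationRing.exists_irreducible A
  obtain ⟨ϖ, hϖ⟩ := IsDiscreteValuationRing.exists_irreducible B
  have hπB : algebraMap A B π ≠ 0 := fun h => hπ.ne_zero (injective A B (h.trans (map_zero _).symm))
  obtain ⟨e, ε, hε⟩ := IsDiscreteValuationRing.eq_unit_mul_pow_irreducible hπB hϖ
  set n := Module.finrank A B with hn
  have hpM : Prime (maximalIdeal B) := Ideal.prime_of_isPrime (ne_bot A B _) inferInstance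
  have hspow : ∀ (w : ℕ) (v : Bˣ), Ideal.span {(v : B) * ϖ ^ w} = maximalIdeal B ^ w := fun w v => by
    rw [hϖ.maximalIdeal_eq, Ideal.span_singleton_pow, Ideal.span_singleton_mul_left_unit v.isUnit]
  have hen : e = n := by
    have hmap : (maximalIdeal A).map (algebraMap A B) = maximalIdeal B ^ e := by
      rw [hπ.maximalIdeal_eq, Ideal.map_span, Set.image_singleton, hε, hspow]
    rw [← hram, Ideal.IsDedekindDomain.ramificationIdx_eq_multiplicity (maximalIdeal A) (maximalIdeal B) (by
      rw [hmap]; exact pow_ne_zero _ (ne_bot A B _)), hmap, multiplicity_pow_self_of_prime hpM e]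
  subst hen
  have hef : (maximalIdeal B).inertiaDeg A = 1 := by
    haveI : Fintype ((maximalIdeal A).primesOver B) := Fintype.ofFinite _
    have h := Ideal.sum_ramification_inertia_eq_finrank (R := A) (S := B) (p := maximalIdeal A)
    rw [Fintype.sum_eq_single (⟨maximalIdeal B, inferInstance, inferInstance⟩ : (maximalIdeal A).primesOver B)
      (fun q hq => absurd (Subtype.ext (eq_maximalIdeal (by
        haveI := q.2.1
        haveI := q.2.2
        exact Ideal.IsMaximal.of_liesOver_isMaximal q.1 (maximalIdeal A)))) hq), hram, ← hn] at h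
    exact (mul_right_eq_self₀.1 h).resolve_right Module.finrank_pos.ne'
  have hsurj : Function.Surjective ((residue B).comp (algebraMap A B)) := by
    haveI : IsLocalHom (algebraMap A B) := ⟨fun a ha => by
      by_contra h
      exact ((liesOver A B (maximalIdeal B)).ge h : a ∈ (maximalIdeal B).comap (algebraMap A B)) ha⟩
    have h1 : Module.finrank (A ⧸ maximalIdeal A) (B ⧸ maximalIdeal B) = 1 := by
      rw [← Ideal.inertiaDeg_eq_of_isMaximal (maximalIdeal A) (maximalIdeal B), hef]
    intro y
    letI : Field (A ⧸ maximalIdeal A) := Ideal.Quotient.field _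
    obtain ⟨c, hc⟩ := (finrank_eq_one_iff_of_nonzero' (1 : B ⧸ maximalIdeal B) one_ne_zero).1 h1 y
    obtain ⟨a, rfl⟩ := Ideal.Quotient.mk_surjective c
    refine ⟨a, ?_⟩
    rw [← hc, Algebra.smul_def, mul_one]
    rfl
  obtain ⟨a, ha⟩ := hsurj (residue B ((ε⁻¹ : Bˣ) : B))
  have hau : IsUnit (algebraMap A B a) := by
    rw [← residue_ne_zero_iff_isUnit]
    change ((residue B).comp (algebraMap A B)) a ≠ 0
    rw [ha]; exact (residue_ne_zero_iff_isUnit _).2 (Units.isUnit _)
  -- root of `X^n = (ε a)⁻¹`
  let η : Bˣ := (ε * hau.unit)⁻¹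
  have hη : residue B (η : B) = 1 := by
    have h1 : residue B ((ε : B) * algebraMap A B a) = 1 := by
      rw [map_mul, show residue B (algebraMap A B a) = _ from ha, ← map_mul, Units.mul_inv, map_one]
    have h2 : residue B (η : B) * residue B ((ε : B) * algebraMap A B a) = 1 := by
      rw [← map_mul, show (ε : B) * algebraMap A B a = ((ε * hau.unit : Bˣ) : B) by simp, ← Units.val_mul,
        show η * (ε * hau.unit) = 1 from inv_mul_cancel _, Units.val_one, map_one]
    rwa [h1, mul_one] at h2
  have hnu : IsUnit ((n : ℕ) : B) := by simpa using hm.map (algebraMap A B)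
  obtain ⟨r, hr, hr1⟩ := HenselianLocalRing.is_henselian (Polynomial.X ^ n - Polynomial.C (η : B))
    (Polynomial.monic_X_pow_sub_C _ Module.finrank_pos.ne') 1
    (by rw [← residue_eq_zero_iff]; simp [hη])
    (by simpa [Polynomial.derivative_X_pow] using hnu)
  have hru : IsUnit r := by
    rw [← residue_ne_zero_iff_isUnit]
    have : residue B r = 1 := by
      rw [← map_one (residue B), ← sub_eq_zero, ← map_sub, residue_eq_zero_iff]; exact hr1
    rw [this]; exact one_ne_zero
  have hrn : r ^ n = (η : B) := by simpa [sub_eq_zero] using hr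
  refine ⟨ϖ * ↑hru.unit⁻¹, ?_, ?_, ?_⟩
  · exact Ideal.mul_mem_right _ _ hϖ.not_isUnit
  · intro h
    rw [Ideal.mul_unit_mem_iff_mem _ (Units.isUnit _), hϖ.maximalIdeal_eq, Ideal.span_singleton_pow,
      Ideal.mem_span_singleton] at h
    have := (pow_dvd_pow_iff hϖ.ne_zero hϖ.not_isUnit).1 (show ϖ ^ 2 ∣ ϖ ^ 1 by rwa [pow_one])
    omega
  · have hpow : (ϖ * ↑hru.unit⁻¹) ^ n = algebraMap A B (π * a) := by
      have h1 : ((hru.unit⁻¹ : Bˣ) : B) ^ n = (ε : B) * algebraMap A B a := by
        have h3 : r ^ n * ((ε : B) * algebraMap A B a) = 1 := by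
          rw [hrn, show (ε : B) * algebraMap A B a = ((ε * hau.unit : Bˣ) : B) by simp, ← Units.val_mul,
            show η * (ε * hau.unit) = 1 from inv_mul_cancel _, Units.val_one]
        calc ((hru.unit⁻¹ : Bˣ) : B) ^ n
            = ((hru.unit⁻¹ : Bˣ) : B) ^ n * (r ^ n * ((ε : B) * algebraMap A B a)) := by rw [h3, mul_one]
          _ = (((hru.unit⁻¹ : Bˣ) : B) * r) ^ n * ((ε : B) * algebraMap A B a) := by ring
          _ = _ := by rw [IsUnit.val_inv_mul, one_pow, one_mul]
      rw [mul_pow, h1, map_mul, hε]; ring
    refine ⟨⟨π * a, hpow.symm⟩, ?_⟩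
    have haA : IsUnit a := by
      by_contra h
      exact (((liesOver A B (maximalIdeal B)).ge h) : a ∈ (maximalIdeal B).comap (algebraMap A B)) hau
    have hirr : Irreducible (Polynomial.X ^ n - Polynomial.C (π * a)) := by
      have hpr : (Ideal.span {π} : Ideal A).IsPrime :=
        (Ideal.span_singleton_prime hπ.ne_zero).2 hπ.prime
      refine Polynomial.IsEisensteinAt.irreducible (𝓟 := Ideal.span {π}) ?_ hpr
        (Polynomial.monic_X_pow_sub_C _ Module.finrank_pos.ne').isPrimitive
        (by rw [Polynomial.natDegree_X_pow_sub_C]; exact Module.finrank_pos)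
      refine (Polynomial.monic_X_pow_sub_C _ Module.finrank_pos.ne').isEisensteinAt_of_mem_of_notMem hpr.ne_top
        (fun {i} hi => ?_) ?_
      · rw [Polynomial.natDegree_X_pow_sub_C] at hi
        rw [Polynomial.coeff_sub, Polynomial.coeff_X_pow, if_neg hi.ne, Polynomial.coeff_C]
        split_ifs
        · simpa using Ideal.mul_mem_right a _ (Ideal.mem_span_singleton_self π)
        · simp
      · rw [Polynomial.coeff_sub, Polynomial.coeff_X_pow, if_neg Module.finrank_pos.ne, Polynomial.coeff_C_zero,
          zero_sub, Ideal.span_singleton_pow, neg_mem_iff, Ideal.mem_span_singleton, sq,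
          mul_dvd_mul_iff_left hπ.ne_zero]
        exact fun h => hπ.not_isUnit (isUnit_of_dvd_unit h haA)
    haveI : IsScalarTower A B B := IsScalarTower.right
    have heq : minpoly A (ϖ * ↑hru.unit⁻¹) = Polynomial.X ^ n - Polynomial.C (π * a) := by
      have hint : IsIntegral A (ϖ * ↑hru.unit⁻¹) := IsIntegral.of_finite A _
      haveI : FaithfulSMul A B := (faithfulSMul_iff_algebraMap_injective A B).2 (injective A B)
      have hdvd := minpoly.isIntegrallyClosed_dvd hint
        (show Polynomial.aeval (ϖ * ↑hru.unit⁻¹) (Polynomial.X ^ n - Polynomial.C (π * a)) = 0 by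
          simp [hpow])
      refine Polynomial.eq_of_monic_of_associated (minpoly.monic hint)
        (Polynomial.monic_X_pow_sub_C _ Module.finrank_pos.ne')
        (associated_of_dvd_dvd hdvd ?_)
      exact (minpoly.irreducible hint).dvd_symm hirr hdvd
    rw [heq, Polynomial.natDegree_X_pow_sub_C]

end Groth.Agent.CplDvrExtLib
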